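import Cfsg.Agent.U62Rec.S83.Data.ST
import Cfsg.Agent.U62Rec.Facts

/-!
# Checks of a configuration (ST)
-/

set_option autoImplicit false
set_option maxRecDepth 65536
set_option maxHeartbeats 4000000
set_option Elab.async false

namespace Cfsg.Agent.U62Rec.S83.ST

def dd0 : SecondData := ⟨[0, 5, 80, 85, 224, 229, 176, 181, 10, 15, 90, 95, 234, 239, 186, 191], [5, 10, 14, 15, 7,
  11, 94, 9, 13, 167, 6, 91, 238, 249, 173, 119, 246, 85, 235, 190, 153, 170, 125, 215, 150, 255, 229, 187, 105,
  122, 221, 102, 159, 181, 176, 218, 208, 111, 96, 224, 80, 112, 160, 144, 240], 14, 176, 7553858608036714302,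
  16473203657253987615, 224, 16325997749104166862, 7193009931603838287, [3463479494608751620]⟩

def plain : List (InCase × List (ℕ × ℕ)) := [(ic1, vt1.ts)]

theorem tau0_0 : tauOK gens lin 3463479494608751620 (stdHs gens) = true := by decide +kernel

theorem taus0 : ∀ τ ∈ dd0.taus, TauHyp gens lin τ := by
  intro τ hτ
  simp only [dd0, List.mem_cons, List.not_mem_nil, or_false] at hτ
  subst hτ
  exact tauHyp_std (by decide +kernel) tau0_0

theorem in0 : caseOKT gens ginv lin vt0 ic0 dd0 plain = true := by decide +kernel

theorem in1 : caseOK gens ginv lin vt1 ic1 = true := by decide +kernel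

theorem plain_ok : ∀ c ∈ plain, CaseHyp gens lin c.1 ∧ ∀ p ∈ c.2, Gen gens p.2 := by
  intro c hc
  simp only [plain, List.mem_cons, List.not_mem_nil, or_false] at hc
  subst hc
  exact ⟨caseHyp_of_ok in1, fun p hp =>
    ((Tab.spec_of_ok (caseOK_tab in1)).ts_gen p hp).2.1⟩

theorem tab0 : vt0.ok gens ginv = true := by
  have h := in0
  simp only [caseOKT, Bool.and_eq_true] at h
  exact h.1.1.1.1.1.1.1.1.1.1.1.1.1.1.1.1.1.1

def cover : List (InCase × List (ℕ × ℕ)) := [(ic0, vt0.ts), (ic1, vt1.ts)]

theorem cover_ok : coverOK lin cover = true := by decide +kernel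

theorem out0 : outOK gens ginv lin ct0 oc0 row0 = true := by decide +kernel

theorem out1 : outOK gens ginv lin ct1 oc1 row1 = true := by decide +kernel

theorem out2 : outOK gens ginv lin ct2 oc2 row2 = true := by decide +kernel

theorem out3 : outOK gens ginv lin ct3 oc3 row3 = true := by decide +kernel

theorem out4 : outOK gens ginv lin ct4 oc4 row4 = true := by decide +kernel

theorem out5 : outOK gens ginv lin ct5 oc5 row5 = true := by decide +kernel

theorem out6 : outOK gens ginv lin ct6 oc6 row6 = true := by decide +kernel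

theorem vt0_ok : vt0.ok gens ginv = true := by decide +kernel

theorem vt0_fix : vt0.stabOK 5 = true := by decide +kernel

theorem vt0_odd : (vt0.ts.map fun p => app p.1 5).toFinset.card % 2 = 1 := by decide +kernel

theorem wit_ok : witOK vt0 [(oc0, ct0), (oc1, ct1), (oc2, ct2), (oc3, ct3), (oc4, ct4), (oc5, ct5), (oc6, ct6)]
  vt0.S wit = true := by decide +kernel

theorem facts : Facts ⟨gens, lin⟩ [(oc0, row0), (oc1, row1), (oc2, row2), (oc3, row3), (oc4, row4), (oc5, row5), (oc6, row6)] where
  covered := by
    refine covered_of_okX cover_ok fun c hc => ?_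
    simp only [cover, List.mem_cons, List.not_mem_nil, or_false] at hc
    rcases hc with rfl | rfl
    · exact ⟨Or.inr ⟨dd0, caseHypT_of_ok in0 plain_ok taus0⟩,
        fun p hp => ((Tab.spec_of_ok tab0).ts_gen p hp).2.1⟩
    · exact ⟨Or.inl (caseHyp_of_ok in1), fun p hp =>
        ((Tab.spec_of_ok (caseOK_tab in1)).ts_gen p hp).2.1⟩
  hyp := by
    intro o ho
    fin_cases ho
    · exact outHyp_of_ok out0
    · exact outHyp_of_ok out1
    · exact outHyp_of_ok out2
    · exact outHyp_of_ok out3
    · exact outHyp_of_ok out4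
    · exact outHyp_of_ok out5
    · exact outHyp_of_ok out6
  cls := cls_of_classified vt0_ok vt0_fix vt0_odd wit_ok
    (by intro ct hct; fin_cases hct
        · exact outOK_tab out0
        · exact outOK_tab out1
        · exact outOK_tab out2
        · exact outOK_tab out3
        · exact outOK_tab out4
        · exact outOK_tab out5
        · exact outOK_tab out6)
    (outs := [(oc0, row0), (oc1, row1), (oc2, row2), (oc3, row3), (oc4, row4), (oc5, row5), (oc6, row6)])
    (by intro ct hct; fin_cases hct
        · exact ⟨row0, by simp⟩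
        · exact ⟨row1, by simp⟩
        · exact ⟨row2, by simp⟩
        · exact ⟨row3, by simp⟩
        · exact ⟨row4, by simp⟩
        · exact ⟨row5, by simp⟩
        · exact ⟨row6, by simp⟩)

end Cfsg.Agent.U62Rec.S83.ST
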